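import Groth.Prelude.Def_W4c2quivmodsheafKron
import Mathlib.LinearAlgebra.Dual.Lemmas
import Mathlib.LinearAlgebra.Eigenspace.Triangularizable
import Mathlib.LinearAlgebra.Matrix.ToLinearEquiv

/-!
# Kronecker modules
-/

namespace Groth.Agent.Lib.Kron99.Basic

open Module

variable {K : Type*} [Field K] {V W : Type*} [AddCommGroup V] [Module K V] [FiniteDimensional K V]
  [AddCommGroup W] [Module K W] [FiniteDimensional K W] {n : ℕ}

/-- The sum map. -/
def sumMap (f : Fin n → (V →ₗ[K] W)) : (Fin n → V) →ₗ[K] W :=
  ∑ j, f j ∘ₗ LinearMap.proj j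

@[simp] theorem sumMap_apply (f : Fin n → (V →ₗ[K] W)) (v : Fin n → V) : sumMap f v = ∑ j, f j (v j) := by
  simp [sumMap]

theorem finrank_pi_const (V : Type*) [AddCommGroup V] [Module K V] [FiniteDimensional K V] (n : ℕ) :
    finrank K (Fin n → V) = n * finrank K V := by
  simp [Module.finrank_pi_fintype]

theorem apply_mem_range_sumMap (f : Fin n → (V →ₗ[K] W)) (j : Fin n) (v : V) : f j v ∈ (sumMap f).range := by
  refine ⟨Pi.single j v, ?_⟩
  rw [sumMap_apply, Finset.sum_eq_single j (fun i _ hi => by simp [hi]) (by simp), Pi.single_eq_same]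

theorem range_sumMap_eq_top {f : Fin n → (V →ₗ[K] W)} (h : KronMod.IsSemistable f) (hV : 0 < finrank K V) :
    (sumMap f).range = ⊤ := by
  by_contra hne
  have hsub : KronMod.IsSubrep f ⊤ (sumMap f).range := fun j => by
    rintro _ ⟨v, -, rfl⟩
    exact apply_mem_range_sumMap f j v
  have hne' : (⊤ : Submodule K V) ≠ ⊥ := fun h0 => by
    have := congrArg (fun U : Submodule K V => finrank K U) h0
    simp at this
    omega
  have := h.2 ⊤ _ hsub (fun h0 => hne' h0.1) (fun h0 => hne h0.2)
  rw [finrank_top, mul_comm] at this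
  exact hne (Submodule.eq_top_of_finrank_eq (le_antisymm (Submodule.finrank_le _) (Nat.le_of_mul_le_mul_left this hV)))

theorem ker_pi_eq_bot {f : Fin n → (V →ₗ[K] W)} (h : KronMod.IsSemistable f) (hW : 0 < finrank K W) :
    LinearMap.ker (LinearMap.pi f) = ⊥ := by
  by_contra hne
  have hsub : KronMod.IsSubrep f (LinearMap.ker (LinearMap.pi f)) ⊥ := fun j => by
    rintro _ ⟨v, hv, rfl⟩
    exact congrFun (LinearMap.mem_ker.1 hv) j
  have := h.2 _ ⊥ hsub (fun h0 => hne h0.1) (fun h0 => by
    have := congrArg (fun U : Submodule K W => finrank K U) h0.2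
    simp at this
    omega)
  rw [finrank_bot, mul_zero, Nat.le_zero, mul_eq_zero] at this
  exact hne (Submodule.finrank_eq_zero.1 (this.resolve_left hW.ne'))

theorem finrank_le_of_sum_injective {f : Fin n → (V →ₗ[K] W)} (hf : Function.Injective (sumMap f))
    {V' : Submodule K V} {W' : Submodule K W} (h : KronMod.IsSubrep f V' W') :
    n * finrank K V' ≤ finrank K W' := by
  let ι : (Fin n → V') →ₗ[K] W' := (sumMap f ∘ₗ LinearMap.pi fun j => V'.subtype ∘ₗ LinearMap.proj j).codRestrict W'
    fun v => by
      rw [LinearMap.comp_apply, sumMap_apply]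
      exact Submodule.sum_mem _ fun j _ => h j ⟨_, (v j).2, rfl⟩
  have hinj : Function.Injective ι := fun a b hab => funext fun j =>
    Subtype.ext (congrFun (hf (congrArg Subtype.val hab)) j)
  have := LinearMap.finrank_le_finrank_of_injective hinj
  rwa [finrank_pi_const] at this

theorem finrank_le_of_pi_injective {f : Fin n → (V →ₗ[K] W)} (hf : Function.Injective (LinearMap.pi f))
    {V' : Submodule K V} {W' : Submodule K W} (h : KronMod.IsSubrep f V' W') :
    finrank K V' ≤ n * finrank K W' := by
  let ι : V' →ₗ[K] (Fin n → W') := LinearMap.pi fun j =>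
    (f j ∘ₗ V'.subtype).codRestrict W' fun v => h j ⟨_, v.2, rfl⟩
  have hinj : Function.Injective ι := fun a b hab => Subtype.ext (hf (funext fun j =>
    congrArg Subtype.val (congrFun hab j)))
  have := LinearMap.finrank_le_finrank_of_injective hinj
  rwa [finrank_pi_const] at this

theorem semistable_iff_sum_bijective (f : Fin n → (V →ₗ[K] W)) (hV : 0 < finrank K V)
    (hW : finrank K W = n * finrank K V) :
    KronMod.IsSemistable f ↔ Function.Bijective (sumMap f) := by
  constructor
  · intro h
    have hs : Function.Surjective (sumMap f) := LinearMap.range_eq_top.1 (range_sumMap_eq_top h hV)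
    exact ⟨(LinearMap.injective_iff_surjective_of_finrank_eq_finrank (by rw [finrank_pi_const, hW])).2 hs, hs⟩
  · intro h
    refine ⟨by omega, fun V' W' hsub _ _ => ?_⟩
    have := finrank_le_of_sum_injective h.1 hsub
    rw [hW]
    calc n * finrank K V * finrank K V' = finrank K V * (n * finrank K V') := by ring
      _ ≤ _ := Nat.mul_le_mul_left _ this

theorem semistable_iff_pi_bijective (f : Fin n → (V →ₗ[K] W)) (hW : 0 < finrank K W)
    (hV : finrank K V = n * finrank K W) :
    KronMod.IsSemistable f ↔ Function.Bijective (LinearMap.pi f) := by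
  constructor
  · intro h
    have hi : Function.Injective (LinearMap.pi f) := LinearMap.ker_eq_bot.1 (ker_pi_eq_bot h hW)
    exact ⟨hi, (LinearMap.injective_iff_surjective_of_finrank_eq_finrank (by rw [finrank_pi_const, hV])).1 hi⟩
  · intro h
    refine ⟨by omega, fun V' W' hsub _ _ => ?_⟩
    have := finrank_le_of_pi_injective h.1 hsub
    rw [hV]
    calc finrank K W * finrank K V' ≤ finrank K W * (n * finrank K W') := Nat.mul_le_mul_left _ this
      _ = _ := by ring

theorem semistable_of_stable {f : Fin n → (V →ₗ[K] W)} (h : KronMod.IsStable f) : KronMod.IsSemistable f :=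
  ⟨h.1, fun V' W' a b c => (h.2 V' W' a b c).le⟩

/-- Over an algebraically closed field a semistable pencil of square maps contains an isomorphism. -/
theorem exists_bijective_of_pencil [IsAlgClosed K] (f : Fin 2 → (V →ₗ[K] W)) (k : ℕ)
    (hV : finrank K V = k) (hW : finrank K W = k) (hf : KronMod.IsSemistable f) :
    ∃ z : Fin 2 → K, Function.Bijective ((∑ j, z j • f j : V →ₗ[K] W) : V → W) := by
  classical
  by_contra hno
  push Not at hno
  let bV := Module.finBasisOfFinrankEq K V hV
  let bW := Module.finBasisOfFinrankEq K W hW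
  let M : Fin 2 → Matrix (Fin k) (Fin k) K := fun j => LinearMap.toMatrix bV bW (f j)
  let P : Matrix (Fin k) (Fin k) (Polynomial K) := (M 0).map Polynomial.C + (Polynomial.X : Polynomial K) • (M 1).map Polynomial.C
  have hdet : P.det = 0 := by
    refine Polynomial.funext fun t => ?_
    rw [Polynomial.eval_zero, ← Polynomial.coe_evalRingHom, RingHom.map_det]
    have he : (Polynomial.evalRingHom t).mapMatrix P = LinearMap.toMatrix bV bW (∑ j, (![1, t] j) • f j) := by
      ext i l
      simp [P, M, Fin.sum_univ_two]
      ring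
    rw [he]
    by_contra hne
    refine hno ![1, t] ?_
    have h1 : Function.Injective ((LinearMap.toMatrix bV bW (∑ j, (![1, t] j) • f j)).mulVec) :=
      Matrix.mulVec_injective_iff_isUnit.2 ((Matrix.isUnit_iff_isUnit_det _).2 (isUnit_iff_ne_zero.2 hne))
    have h2 : Function.Injective ((∑ j, (![1, t] j) • f j : V →ₗ[K] W) : V → W) := fun a b hab => by
      refine bV.repr.injective (DFunLike.coe_injective (h1 ?_))
      rw [LinearMap.toMatrix_mulVec_repr, LinearMap.toMatrix_mulVec_repr, hab]
    exact ⟨h2, (LinearMap.injective_iff_surjective_of_finrank_eq_finrank (by rw [hV, hW])).1 h2⟩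
  obtain ⟨p, hp, hPp⟩ := Matrix.exists_mulVec_eq_zero_iff.2 hdet
  let c : ℕ → V := fun i => bV.equivFun.symm fun l => (p l).coeff i
  have hrec : ∀ i, f 0 (c (i + 1)) + f 1 (c i) = 0 := fun i => by
    refine bW.repr.injective (Finsupp.ext fun l => ?_)
    have h := congrArg (fun q : Polynomial K => q.coeff (i + 1)) (congrFun hPp l)
    simp only [Matrix.mulVec, dotProduct, P, Matrix.add_apply, Matrix.smul_apply, Matrix.map_apply, smul_eq_mul,
      add_mul, Finset.sum_add_distrib, Polynomial.coeff_add, Polynomial.finset_sum_coeff, mul_assoc,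
      Polynomial.coeff_C_mul, Polynomial.coeff_X_mul, Pi.zero_apply, Polynomial.coeff_zero] at h
    rw [map_add, Finsupp.add_apply, map_zero, Finsupp.zero_apply, ← LinearMap.toMatrix_mulVec_repr bV bW,
      ← LinearMap.toMatrix_mulVec_repr bV bW]
    simpa [c, Matrix.mulVec, dotProduct, M, Finsupp.single_apply] using h
  have hzero : f 0 (c 0) = 0 := by
    refine bW.repr.injective (Finsupp.ext fun l => ?_)
    have h := congrArg (fun q : Polynomial K => q.coeff 0) (congrFun hPp l)
    simp only [Matrix.mulVec, dotProduct, P, Matrix.add_apply, Matrix.smul_apply, Matrix.map_apply, smul_eq_mul,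
      add_mul, Finset.sum_add_distrib, Polynomial.coeff_add, Polynomial.finset_sum_coeff, mul_assoc,
      Polynomial.coeff_C_mul, Polynomial.coeff_X_mul_zero, Pi.zero_apply, Polynomial.coeff_zero, Finset.sum_const_zero, add_zero] at h
    rw [map_zero, Finsupp.zero_apply, ← LinearMap.toMatrix_mulVec_repr bV bW]
    simpa [c, Matrix.mulVec, dotProduct, M, Finsupp.single_apply] using h
  let V' := Submodule.span K (Set.range c)
  have hsub : KronMod.IsSubrep f V' (V'.map (f 0)) := fun j => by
    rw [Submodule.map_span, Submodule.span_le]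
    rintro _ ⟨_, ⟨i, rfl⟩, rfl⟩
    fin_cases j
    · exact Submodule.mem_map_of_mem (Submodule.subset_span ⟨i, rfl⟩)
    · show f 1 (c i) ∈ _
      rw [eq_neg_of_add_eq_zero_right (hrec i)]
      exact neg_mem (Submodule.mem_map_of_mem (Submodule.subset_span ⟨i + 1, rfl⟩))
  obtain ⟨i, hi, hmin⟩ : ∃ i, c i ≠ 0 ∧ ∀ m < i, c m = 0 := by
    obtain ⟨l, hl⟩ := Function.ne_iff.1 hp
    have hex : ∃ i, c i ≠ 0 := by
      obtain ⟨i, hi⟩ := Polynomial.support_nonempty.2 hl
      exact ⟨i, fun h0 => Polynomial.mem_support_iff.1 hi (by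
        have h5 := congrFun (congrArg bV.equivFun h0) l
        simp only [c, LinearEquiv.apply_symm_apply, map_zero] at h5
        exact h5)⟩
    exact ⟨Nat.find hex, Nat.find_spec hex, fun m hm => not_not.1 (Nat.find_min hex hm)⟩
  have hker : f 0 (c i) = 0 := by
    cases i with
    | zero => exact hzero
    | succ m => simpa [hmin m (Nat.lt_succ_self m)] using hrec m
  have hmem : c i ∈ V' := Submodule.subset_span ⟨i, rfl⟩
  have hlt : finrank K (V'.map (f 0)) < finrank K V' := by
    have h1 := LinearMap.finrank_range_add_finrank_ker (f 0 ∘ₗ V'.subtype)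
    rw [LinearMap.range_comp, Submodule.range_subtype] at h1
    have h2 : 0 < finrank K (LinearMap.ker (f 0 ∘ₗ V'.subtype)) := by
      refine Nat.pos_of_ne_zero fun h0 => hi ?_
      have h3 := Submodule.finrank_eq_zero.1 h0
      have h4 : (⟨c i, hmem⟩ : V') ∈ LinearMap.ker (f 0 ∘ₗ V'.subtype) := hker
      rw [h3] at h4
      simpa using h4
    omega
  have hk : 0 < k := hV ▸ (Nat.zero_lt_of_lt hlt).trans_le (Submodule.finrank_le V')
  have := hf.2 V' _ hsub (fun h0 => by rw [h0.1] at hmem; exact hi (by simpa using hmem)) (fun h0 => by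
    have h1 := hlt
    rw [h0.2, h0.1, finrank_top, finrank_top, hV, hW] at h1
    exact lt_irrefl k h1)
  rw [hV, hW] at this
  exact absurd (Nat.le_of_mul_le_mul_left this hk) (not_le.2 hlt)

/-- An isomorphism in a pencil of maps between spaces of dimension at least two destroys stability. -/
theorem not_stable_two [IsAlgClosed K] (f : Fin 2 → (V →ₗ[K] W)) (k : ℕ) (hk : 2 ≤ k)
    (hV : finrank K V = k) (hW : finrank K W = k) : ¬ KronMod.IsStable f := by
  intro hs
  obtain ⟨z, hz⟩ := exists_bijective_of_pencil f k hV hW (semistable_of_stable hs)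
  let φ := LinearEquiv.ofBijective _ hz
  have : Nontrivial V := Module.nontrivial_of_finrank_pos (R := K) (by omega)
  have hkey : ∀ i i' : Fin 2, i ≠ i' → z i' ≠ 0 → False := by
    intro i i' hii hzi
    obtain ⟨l, hl⟩ := Module.End.exists_eigenvalue (φ.symm.toLinearMap ∘ₗ f i)
    obtain ⟨x, hx⟩ := hl.exists_hasEigenvector
    have h1 : f i x = l • φ x := by
      simpa using congrArg φ hx.apply_eq_smul
    have h2 : φ x = z i • f i x + z i' • f i' x := by
      show (∑ j, z j • f j) x = _
      fin_cases i <;> fin_cases i' <;> simp_all [Fin.sum_univ_two, add_comm]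
    let W' := Submodule.span K {φ x}
    have hmem : ∀ j, f j x ∈ W' := by
      have hi : f i x ∈ W' := h1 ▸ Submodule.smul_mem _ _ (Submodule.mem_span_singleton_self _)
      have hi' : f i' x ∈ W' := by
        rw [← inv_smul_smul₀ hzi (f i' x)]
        refine Submodule.smul_mem _ _ ?_
        rw [eq_sub_of_add_eq' h2.symm]
        exact sub_mem (Submodule.mem_span_singleton_self _) (Submodule.smul_mem _ _ hi)
      intro j
      fin_cases i <;> fin_cases i' <;> fin_cases j <;> first | exact absurd rfl hii | exact hi | exact hi'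
    have hx0 : x ≠ 0 := hx.2
    have hlt := hs.2 (Submodule.span K {x}) W' (fun j => by
        rw [Submodule.map_span, Set.image_singleton, Submodule.span_le, Set.singleton_subset_iff]
        exact hmem j)
      (fun h0 => hx0 (Submodule.span_singleton_eq_bot.1 h0.1))
      (fun h0 => by
        have := congrArg (fun U : Submodule K V => finrank K U) h0.1
        simp [finrank_span_singleton hx0, hV] at this
        omega)
    rw [finrank_span_singleton hx0, finrank_span_singleton (φ.map_ne_zero_iff.2 hx0), hV, hW] at hlt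
    exact lt_irrefl _ hlt
  by_cases h1 : z 1 = 0
  · by_cases h0 : z 0 = 0
    · have h2 : φ.toLinearMap = 0 := by
        show (∑ j, z j • f j) = 0
        simp [Fin.sum_univ_two, h0, h1]
      obtain ⟨x, hx⟩ := exists_ne (0 : V)
      exact hx (φ.map_eq_zero_iff.1 (LinearMap.congr_fun h2 x))
    · exact hkey 1 0 (by decide) h0
  · exact hkey 0 1 (by decide) h1

/-- Two distinct lines meet in zero. -/
theorem inf_eq_bot_of_lines {X : Type*} [AddCommGroup X] [Module K X] [FiniteDimensional K X] {p q : Submodule K X}
    (hp : finrank K p = 1) (hq : finrank K q = 1) (hpq : p ≠ q) : p ⊓ q = ⊥ := by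
  rcases Nat.eq_zero_or_pos (finrank K (p ⊓ q : Submodule K X)) with h | h
  · exact Submodule.finrank_eq_zero.1 h
  · exact absurd ((Submodule.eq_of_le_of_finrank_le (inf_le_left : p ⊓ q ≤ p) (by omega)).symm.trans
      (Submodule.eq_of_le_of_finrank_le (inf_le_right : p ⊓ q ≤ q) (by omega))) hpq

/-- Two by two. -/
theorem exists_bijective_two (f : Fin n → (V →ₗ[K] W)) (hV : finrank K V = 2) (hW : finrank K W = 2)
    (hf : KronMod.IsSemistable f) :
    ∃ z : Fin n → K, Function.Bijective ((∑ j, z j • f j : V →ₗ[K] W) : V → W) := by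
  classical
  by_contra hno
  push Not at hno
  have hiff : ∀ g : V →ₗ[K] W, Function.Injective g → Function.Bijective g := fun g hg =>
    ⟨hg, (LinearMap.injective_iff_surjective_of_finrank_eq_finrank (by rw [hV, hW])).1 hg⟩
  have hrk : ∀ j, f j ≠ 0 → finrank K (LinearMap.ker (f j)) = 1 ∧ finrank K (LinearMap.range (f j)) = 1 := by
    intro j hj
    have h := LinearMap.finrank_range_add_finrank_ker (f j)
    have h1 : finrank K (LinearMap.ker (f j)) ≠ 0 := fun h0 => hno (Pi.single j 1) (by
      rw [Finset.sum_eq_single j (fun i _ hi => by simp [hi]) (by simp), Pi.single_eq_same, one_smul]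
      exact hiff _ (LinearMap.ker_eq_bot.1 (Submodule.finrank_eq_zero.1 h0)))
    have h2 : finrank K (LinearMap.range (f j)) ≠ 0 := fun h0 =>
      hj (LinearMap.range_eq_bot.1 (Submodule.finrank_eq_zero.1 h0))
    omega
  have hshare : ∀ a b, f a ≠ 0 → f b ≠ 0 →
      LinearMap.ker (f a) = LinearMap.ker (f b) ∨ LinearMap.range (f a) = LinearMap.range (f b) := by
    intro a b ha hb
    by_contra hne
    push Not at hne
    have hab : a ≠ b := fun h => hne.1 (by rw [h])
    refine hno (Pi.single a 1 + Pi.single b 1) ?_
    rw [Finset.sum_congr rfl (fun j _ => by rw [Pi.add_apply, add_smul]), Finset.sum_add_distrib,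
      Finset.sum_eq_single a (fun i _ hi => by simp [hi]) (by simp),
      Finset.sum_eq_single b (fun i _ hi => by simp [hi]) (by simp)]
    simp only [Pi.single_eq_same, one_smul]
    refine hiff _ (LinearMap.ker_eq_bot.1 ((Submodule.eq_bot_iff _).2 fun x hx => ?_))
    have hmem : f a x ∈ LinearMap.range (f a) ⊓ LinearMap.range (f b) := by
      refine ⟨⟨x, rfl⟩, ?_⟩
      rw [eq_neg_of_add_eq_zero_left (show f a x + f b x = 0 from hx)]
      exact neg_mem ⟨x, rfl⟩
    rw [inf_eq_bot_of_lines (hrk a ha).2 (hrk b hb).2 hne.2, Submodule.mem_bot] at hmem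
    have hxb : f b x = 0 := by
      have : f a x + f b x = 0 := hx
      simpa [hmem] using this
    have := inf_eq_bot_of_lines (hrk a ha).1 (hrk b hb).1 hne.1
    exact (Submodule.mem_bot K).1 (this ▸ ⟨hmem, hxb⟩)
  obtain ⟨a, ha⟩ : ∃ a, f a ≠ 0 := by
    by_contra hall
    push Not at hall
    have h := range_sumMap_eq_top hf (by omega)
    rw [show sumMap f = 0 from LinearMap.ext fun v => by simp [hall], LinearMap.range_zero] at h
    have := congrArg (fun U : Submodule K W => finrank K U) h
    simp [hW] at this
  obtain ⟨b, hb⟩ : ∃ b, ¬ LinearMap.ker (f a) ≤ LinearMap.ker (f b) := by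
    by_contra hall
    push Not at hall
    have h := ker_pi_eq_bot hf (by omega)
    rw [LinearMap.ker_pi] at h
    have h0 : LinearMap.ker (f a) = ⊥ := le_bot_iff.1 (h ▸ le_iInf fun i => hall i)
    have := (hrk a ha).1
    rw [h0, finrank_bot] at this
    omega
  obtain ⟨c, hc⟩ : ∃ c, ¬ LinearMap.range (f c) ≤ LinearMap.range (f a) := by
    by_contra hall
    push Not at hall
    have h := range_sumMap_eq_top hf (by omega)
    have h1 : (sumMap f).range ≤ LinearMap.range (f a) := by
      rintro _ ⟨v, rfl⟩
      rw [sumMap_apply]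
      exact Submodule.sum_mem _ fun j _ => hall j ⟨_, rfl⟩
    rw [h, top_le_iff] at h1
    have := (hrk a ha).2
    rw [h1, finrank_top] at this
    omega
  have hb0 : f b ≠ 0 := fun h => hb (by simp [h])
  have hc0 : f c ≠ 0 := fun h => hc (by simp [h])
  have h1 := (hshare a b ha hb0).resolve_left fun h => hb h.le
  have h2 := (hshare a c ha hc0).resolve_right fun h => hc h.ge
  rcases hshare b c hb0 hc0 with h | h
  · exact hb (h ▸ h2.le)
  · exact hc (h ▸ h1.ge)

theorem semistable_of_dual {f : Fin n → (V →ₗ[K] W)} :
    (KronMod.IsSemistable f ↔ KronMod.IsSemistable fun j => (f j).dualMap) ∧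
    (KronMod.IsStable f ↔ KronMod.IsStable fun j => (f j).dualMap) := by
  have hfor : ∀ (P : ℕ → ℕ → Prop),
      (∀ (V' : Submodule K V) (W' : Submodule K W), KronMod.IsSubrep f V' W' →
        ¬ (V' = ⊥ ∧ W' = ⊥) → ¬ (V' = ⊤ ∧ W' = ⊤) →
        P (finrank K V') (finrank K W')) ↔
      (∀ (U : Submodule K (Module.Dual K W)) (U' : Submodule K (Module.Dual K V)),
        KronMod.IsSubrep (fun j => (f j).dualMap) U U' → ¬ (U = ⊥ ∧ U' = ⊥) → ¬ (U = ⊤ ∧ U' = ⊤) →
        P (finrank K V - finrank K U') (finrank K W - finrank K U)) := by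
    intro P
    constructor
    · intro h U U' hs h1 h2
      have e1 := Subspace.finrank_dualCoannihilator_eq (Φ := U')
      have e2 := Subspace.finrank_dualCoannihilator_eq (Φ := U)
      have := h U'.dualCoannihilator U.dualCoannihilator (fun j => by
          rintro _ ⟨v, hv, rfl⟩
          rw [Submodule.mem_dualCoannihilator]
          intro ψ hψ
          exact (Submodule.mem_dualCoannihilator _).1 hv _ (hs j ⟨ψ, hψ, rfl⟩))
        (fun h0 => h2 ⟨by
            have := Subspace.dualCoannihilator_dualAnnihilator_eq (W := U)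
            rw [h0.2, Submodule.dualAnnihilator_bot] at this
            exact this.symm, by
            have := Subspace.dualCoannihilator_dualAnnihilator_eq (W := U')
            rw [h0.1, Submodule.dualAnnihilator_bot] at this
            exact this.symm⟩)
        (fun h0 => h1 ⟨by
            have := Subspace.dualCoannihilator_dualAnnihilator_eq (W := U)
            rw [h0.2, Submodule.dualAnnihilator_top] at this
            exact this.symm, by
            have := Subspace.dualCoannihilator_dualAnnihilator_eq (W := U')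
            rw [h0.1, Submodule.dualAnnihilator_top] at this
            exact this.symm⟩)
      have d1 : finrank K U'.dualCoannihilator = finrank K V - finrank K U' := by
        have := Subspace.finrank_add_finrank_dualCoannihilator_eq U'
        omega
      have d2 : finrank K U.dualCoannihilator = finrank K W - finrank K U := by
        have := Subspace.finrank_add_finrank_dualCoannihilator_eq U
        omega
      rwa [d1, d2] at this
    · intro h V' W' hs h1 h2
      have := h W'.dualAnnihilator V'.dualAnnihilator (fun j => by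
          rintro _ ⟨ψ, hψ, rfl⟩
          rw [Submodule.mem_dualAnnihilator]
          intro v hv
          exact (Submodule.mem_dualAnnihilator _).1 hψ _ (hs j ⟨v, hv, rfl⟩))
        (fun h0 => h2 ⟨Submodule.dualAnnihilator_eq_bot_iff.1 h0.2, Submodule.dualAnnihilator_eq_bot_iff.1 h0.1⟩)
        (fun h0 => h1 ⟨Submodule.dualAnnihilator_eq_top_iff.1 h0.2, Submodule.dualAnnihilator_eq_top_iff.1 h0.1⟩)
      have e1 := Subspace.finrank_add_finrank_dualAnnihilator_eq V'
      have e2 := Subspace.finrank_add_finrank_dualAnnihilator_eq W'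
      rwa [show finrank K V - finrank K V'.dualAnnihilator = finrank K V' by omega,
        show finrank K W - finrank K W'.dualAnnihilator = finrank K W' by omega] at this
  unfold KronMod.IsSemistable KronMod.IsStable
  simp only [Subspace.dual_finrank_eq]
  rw [hfor fun a b => finrank K W * a ≤ finrank K V * b, hfor fun a b => finrank K W * a < finrank K V * b]
  refine ⟨and_congr (by omega) ?_, and_congr (by omega) ?_⟩
  all_goals
    refine forall₂_congr fun U U' => forall₃_congr fun _ _ _ => ?_
    have a1 : finrank K U ≤ finrank K W := by simpa [Subspace.dual_finrank_eq] using Submodule.finrank_le U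
    have a2 : finrank K U' ≤ finrank K V := by simpa [Subspace.dual_finrank_eq] using Submodule.finrank_le U'
    rw [Nat.mul_sub, Nat.mul_sub, mul_comm (finrank K V) (finrank K W)]
    have := Nat.mul_le_mul_left (finrank K V) a1
    have := Nat.mul_le_mul_left (finrank K W) a2
    have := mul_comm (finrank K V) (finrank K W)
    omega

end Groth.Agent.Lib.Kron99.Basic
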